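import Mathlib
import Groth.Agent.Lib.Helper67.HHLES

/-!
# Dimension bookkeeping along the long exact cohomology sequence (helper88)

For a short exact sequence `S` of O_X-modules over a field `k` with finite-dimensional cohomology,
the three inequalities coming from exactness of the long exact sequence, and the resulting bounds
for a left-bounded exact sequence `0 → C_0 → C_1 → C_2 → ⋯`.
-/

set_option autoImplicit false
set_option linter.style.haveILetI false
universe u
open AlgebraicGeometry CategoryTheory Limits Opposite TopologicalSpace Abelian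

namespace Groth.Agent.Lib.Helper88.LESDim

open Groth.Agent.Lib.Helper1 Groth.Agent.Lib.Helper17.HHLinLES Groth.Agent.Lib.Helper67.HHLES

section LinAlg

variable {k : Type*} [Field k] {A B C : Type*} [AddCommGroup A] [Module k A]
  [AddCommGroup B] [Module k B] [AddCommGroup C] [Module k C]

/-- `A → B → C` exact in the middle: `dim B ≤ dim A + dim C`. -/
theorem finrank_mid_le [Module.Finite k A] [Module.Finite k B] [Module.Finite k C]
    (f : A →ₗ[k] B) (g : B →ₗ[k] C) (h : LinearMap.range f = LinearMap.ker g) :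
    Module.finrank k B ≤ Module.finrank k A + Module.finrank k C := by
  have h1 := LinearMap.finrank_range_add_finrank_ker g
  have h2 : Module.finrank k (LinearMap.ker g) ≤ Module.finrank k A := by
    rw [← h]
    exact LinearMap.finrank_range_le f
  have h3 : Module.finrank k (LinearMap.range g) ≤ Module.finrank k C :=
    Submodule.finrank_le _
  omega

end LinAlg

variable (k : Type u) [Field k] {X : Scheme.{u}} [X.Over (Spec (CommRingCat.of k))]
variable {S : ShortComplex X.Modules} (hS : S.ShortExact)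

include hS in
/-- `h^p(X₂) ≤ h^p(X₁) + h^p(X₃)` -/
theorem finrank_X₂_le (p : ℕ) [Module.Finite k (Coh.HH X S.X₁ p)]
    [Module.Finite k (Coh.HH X S.X₂ p)] [Module.Finite k (Coh.HH X S.X₃ p)] :
    Module.finrank k (Coh.HH X S.X₂ p) ≤
      Module.finrank k (Coh.HH X S.X₁ p) + Module.finrank k (Coh.HH X S.X₃ p) :=
  finrank_mid_le _ _ (range_f_eq_ker_g k hS p)

include hS in
/-- `h^p(X₃) ≤ h^p(X₂) + h^{p+1}(X₁)` -/
theorem finrank_X₃_le (p : ℕ) [Module.Finite k (Coh.HH X S.X₂ p)]
    [Module.Finite k (Coh.HH X S.X₃ p)] [Module.Finite k (Coh.HH X S.X₁ (p + 1))] :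
    Module.finrank k (Coh.HH X S.X₃ p) ≤
      Module.finrank k (Coh.HH X S.X₂ p) + Module.finrank k (Coh.HH X S.X₁ (p + 1)) :=
  finrank_mid_le _ _ (range_eq_ker k hS p)

include hS in
/-- `h^{p+1}(X₁) ≤ h^p(X₃) + h^{p+1}(X₂)` -/
theorem finrank_X₁_succ_le (p : ℕ) [Module.Finite k (Coh.HH X S.X₃ p)]
    [Module.Finite k (Coh.HH X S.X₁ (p + 1))] [Module.Finite k (Coh.HH X S.X₂ (p + 1))] :
    Module.finrank k (Coh.HH X S.X₁ (p + 1)) ≤
      Module.finrank k (Coh.HH X S.X₃ p) + Module.finrank k (Coh.HH X S.X₂ (p + 1)) :=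
  finrank_mid_le _ _ (range_delta_eq_ker_f k hS p)

include hS in
/-- `h^0(X₁) ≤ h^0(X₂)` -/
theorem finrank_X₁_zero_le [Module.Finite k (Coh.HH X S.X₂ 0)] :
    Module.finrank k (Coh.HH X S.X₁ 0) ≤ Module.finrank k (Coh.HH X S.X₂ 0) :=
  LinearMap.finrank_le_finrank_of_injective (HHlin_f_zero_injective k hS)

section Sequence

variable {C : ℕ → X.Modules} (d : ∀ j, C j ⟶ C (j + 1)) (hd : ∀ j, d j ≫ d (j + 1) = 0)

/-- `0 → ker d_j → C_j → ker d_{j+1} → 0` -/
noncomputable def cyc (j : ℕ) : ShortComplex X.Modules :=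
  ShortComplex.mk (kernel.ι (d j)) (kernel.lift (d (j + 1)) (d j) (hd j)) (by
    rw [← cancel_mono (kernel.ι (d (j + 1))), Category.assoc, kernel.lift_ι, kernel.condition,
      zero_comp])

theorem cyc_shortExact (j : ℕ) (hex : (ShortComplex.mk (d j) (d (j + 1)) (hd j)).Exact) :
    (cyc d hd j).ShortExact := by
  have hexact : (cyc d hd j).Exact := by
    apply ShortComplex.exact_of_f_is_kernel
    exact isKernelOfComp (kernel.ι (d (j + 1))) (d j) (kernelIsKernel (d j)) _
      (kernel.lift_ι _ _ _)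
  have hepi : Epi (kernel.lift (d (j + 1)) (d j) (hd j)) :=
    (ShortComplex.exact_iff_epi_kernel_lift _).mp hex
  exact ShortComplex.ShortExact.mk' hexact (inferInstanceAs (Mono (kernel.ι (d j)))) hepi

variable (hex : ∀ j, (ShortComplex.mk (d j) (d (j + 1)) (hd j)).Exact)
  (hfinC : ∀ j p, Module.Finite k (Coh.HH X (C j) p))
  (hfinZ : ∀ j p, Module.Finite k (Coh.HH X (kernel (d j)) p))

include hex hfinC hfinZ in
/-- `h^p(Z_j) ≤ Σ_{t=0}^{p} h^{p-t}(C_{j+t})` -/
theorem finrank_cycles_le (p : ℕ) : ∀ j : ℕ,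
    Module.finrank k (Coh.HH X (kernel (d j)) p) ≤
      (Finset.range (p + 1)).sum (fun t => Module.finrank k (Coh.HH X (C (j + t)) (p - t))) := by
  induction p with
  | zero =>
    intro j
    haveI : Module.Finite k (Coh.HH X (cyc d hd j).X₂ 0) := hfinC j 0
    have h := finrank_X₁_zero_le k (cyc_shortExact d hd j (hex j))
    change Module.finrank k (Coh.HH X (kernel (d j)) 0) ≤ Module.finrank k (Coh.HH X (C j) 0) at h
    simpa using h
  | succ p ih =>
    intro j
    haveI : Module.Finite k (Coh.HH X (cyc d hd j).X₂ (p + 1)) := hfinC j (p + 1)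
    haveI : Module.Finite k (Coh.HH X (cyc d hd j).X₁ (p + 1)) := hfinZ j (p + 1)
    haveI : Module.Finite k (Coh.HH X (cyc d hd j).X₃ p) := hfinZ (j + 1) p
    have h1 := finrank_X₁_succ_le k (cyc_shortExact d hd j (hex j)) p
    have h2 := ih (j + 1)
    rw [Finset.sum_range_succ']
    have h3 : (Finset.range (p + 1)).sum
        (fun t => Module.finrank k (Coh.HH X (C (j + (t + 1))) (p + 1 - (t + 1)))) =
        (Finset.range (p + 1)).sum
          (fun t => Module.finrank k (Coh.HH X (C (j + 1 + t)) (p - t))) := by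
      refine Finset.sum_congr rfl fun t _ => ?_
      rw [show j + (t + 1) = j + 1 + t by omega, show p + 1 - (t + 1) = p - t by omega]
    rw [h3]
    change Module.finrank k (Coh.HH X (kernel (d j)) (p + 1)) ≤
      Module.finrank k (Coh.HH X (kernel (d (j + 1))) p) +
        Module.finrank k (Coh.HH X (C j) (p + 1)) at h1
    simp only [Nat.add_zero, Nat.sub_zero]
    omega

include hex hfinC hfinZ in
theorem cyc_X₂_le (j p : ℕ) :
    Module.finrank k (Coh.HH X (C j) p) ≤
      Module.finrank k (Coh.HH X (kernel (d j)) p) +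
        Module.finrank k (Coh.HH X (kernel (d (j + 1))) p) := by
  haveI : Module.Finite k (Coh.HH X (cyc d hd j).X₁ p) := hfinZ j p
  haveI : Module.Finite k (Coh.HH X (cyc d hd j).X₂ p) := hfinC j p
  haveI : Module.Finite k (Coh.HH X (cyc d hd j).X₃ p) := hfinZ (j + 1) p
  exact finrank_X₂_le k (cyc_shortExact d hd j (hex j)) p

include hex hfinC hfinZ in
theorem cyc_X₃_le (j p : ℕ) :
    Module.finrank k (Coh.HH X (kernel (d (j + 1))) p) ≤
      Module.finrank k (Coh.HH X (C j) p) +
        Module.finrank k (Coh.HH X (kernel (d j)) (p + 1)) := by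
  haveI : Module.Finite k (Coh.HH X (cyc d hd j).X₁ (p + 1)) := hfinZ j (p + 1)
  haveI : Module.Finite k (Coh.HH X (cyc d hd j).X₂ p) := hfinC j p
  haveI : Module.Finite k (Coh.HH X (cyc d hd j).X₃ p) := hfinZ (j + 1) p
  exact finrank_X₃_le k (cyc_shortExact d hd j (hex j)) p

include hex hfinC hfinZ in
theorem cyc_X₁_succ_le (j p : ℕ) :
    Module.finrank k (Coh.HH X (kernel (d j)) (p + 1)) ≤
      Module.finrank k (Coh.HH X (kernel (d (j + 1))) p) +
        Module.finrank k (Coh.HH X (C j) (p + 1)) := by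
  haveI : Module.Finite k (Coh.HH X (cyc d hd j).X₁ (p + 1)) := hfinZ j (p + 1)
  haveI : Module.Finite k (Coh.HH X (cyc d hd j).X₂ (p + 1)) := hfinC j (p + 1)
  haveI : Module.Finite k (Coh.HH X (cyc d hd j).X₃ p) := hfinZ (j + 1) p
  exact finrank_X₁_succ_le k (cyc_shortExact d hd j (hex j)) p

include hex hfinC in
theorem cyc_X₁_zero_le (j : ℕ) :
    Module.finrank k (Coh.HH X (kernel (d j)) 0) ≤ Module.finrank k (Coh.HH X (C j) 0) := by
  haveI : Module.Finite k (Coh.HH X (cyc d hd j).X₂ 0) := hfinC j 0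
  have h := finrank_X₁_zero_le k (cyc_shortExact d hd j (hex j))
  change Module.finrank k (Coh.HH X (kernel (d j)) 0) ≤ Module.finrank k (Coh.HH X (C j) 0) at h
  exact h

end Sequence

theorem sum_Icc_one (f : ℕ → ℤ) (n : ℕ) :
    (Finset.Icc 1 n).sum f = (Finset.range n).sum (fun t => f (t + 1)) := by
  induction n with
  | zero => simp
  | succ n ih => rw [Finset.sum_Icc_succ_top (by omega), ih, Finset.sum_range_succ]

end Groth.Agent.Lib.Helper88.LESDim
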